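import Groth.Agent.Dix93.Regular
import Groth.Agent.Azu26.Basic
import Mathlib.RingTheory.LocalRing.Module
import Mathlib.RingTheory.Etale.StandardEtale

/-! Regular sections of Azumaya algebras over local rings. -/

set_option autoImplicit false
open scoped TensorProduct
open Module Polynomial

namespace Groth.Agent.Dix93

universe u

variable {R : Type u} [CommRing R] [IsLocalRing R] {A : Type u} [Ring A] [Algebra R A]

local notation "κ" => IsLocalRing.ResidueField R

/-- The residual algebra of an Azumaya algebra over a local ring. -/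
theorem residual_spec [IsAzumaya R A] :
    Module.Free R A ∧ Algebra.IsCentral κ (κ ⊗[R] A) ∧ IsSimpleRing (κ ⊗[R] A) ∧
      FiniteDimensional κ (κ ⊗[R] A) ∧ finrank κ (κ ⊗[R] A) = finrank R A := by
  have hfree : Module.Free R A := Module.free_of_flat_of_isLocalRing
  have : IsAzumaya κ (κ ⊗[R] A) := Azu26.isAzumaya_baseChange R κ A
  exact ⟨hfree, Azu26.isCentral_of_field κ (κ ⊗[R] A), Azu26.isSimpleRing_of_field κ (κ ⊗[R] A),
    inferInstance, Module.finrank_baseChange⟩

variable [IsAzumaya R A] {r : ℕ} {ξ : A}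
  (hA : finrank R A = r ^ 2)
  (hd : (minpoly (IsLocalRing.ResidueField R) ((1 : IsLocalRing.ResidueField R) ⊗ₜ[R] ξ)).natDegree = r)
  (hs : (minpoly (IsLocalRing.ResidueField R) ((1 : IsLocalRing.ResidueField R) ⊗ₜ[R] ξ)).Separable)

include hd in
theorem residual_linearIndependent_pow :
    LinearIndependent κ fun i : Fin r => (1 : κ) ⊗ₜ[R] (ξ ^ (i : ℕ)) := by
  have h := linearIndependent_pow (K := κ) ((1 : κ) ⊗ₜ[R] ξ)
  rw [hd] at h
  simpa [Algebra.TensorProduct.tmul_pow] using h

include hd in
theorem linearIndependent_pow_of_regular : LinearIndependent R fun i : Fin r => ξ ^ (i : ℕ) := by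
  have h := IsLocalRing.linearIndependent_of_flat (R := R) (fun i : ULift.{u} (Fin r) => ξ ^ (i.down : ℕ))
    ((residual_linearIndependent_pow hd).comp _ (Equiv.ulift.injective))
  exact h.comp ULift.up fun a b h => congrArg ULift.down h

include hA hd hs in
theorem mem_powSpan_of_commute_local {y : A} (hc : ξ * y = y * ξ) : y ∈ powSpan R ξ r := by
  obtain ⟨hfree, hcen, hsim, hfin, hrk⟩ := residual_spec (R := R) (A := A)
  let f : (Fin r → R) →ₗ[R] A := Fintype.linearCombination R fun i : Fin r => ξ ^ (i : ℕ)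
  let f' : (Fin r → κ) →ₗ[κ] κ ⊗[R] A := Fintype.linearCombination κ fun i : Fin r => (1 : κ) ⊗ₜ[R] (ξ ^ (i : ℕ))
  have hf' : Function.Injective f' := by
    rw [← LinearMap.ker_eq_bot, LinearMap.ker_eq_bot']
    exact fun c hc => funext (Fintype.linearIndependent_iff.mp (residual_linearIndependent_pow hd) c
      (by simpa [f', Fintype.linearCombination_apply] using hc))
  have hff' : ∀ z, f.lTensor κ z = f' (TensorProduct.piScalarRight R κ κ (Fin r) z) := by
    intro z
    induction z using TensorProduct.induction_on with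
    | zero => simp
    | tmul a c =>
      simp only [f, f', LinearMap.lTensor_tmul, Fintype.linearCombination_apply, TensorProduct.tmul_sum,
        TensorProduct.piScalarRight_apply, TensorProduct.piScalarRightHom_tmul]
      refine Finset.sum_congr rfl fun i _ => ?_
      rw [TensorProduct.tmul_smul, TensorProduct.smul_tmul', TensorProduct.smul_tmul', smul_eq_mul, mul_one]
    | add a b ha hb => simp only [map_add, ha, hb]
  obtain ⟨π, hπ⟩ := (IsLocalRing.split_injective_iff_lTensor_residueField_injective f).2 (fun a b h => by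
    rw [hff', hff'] at h
    exact (TensorProduct.piScalarRight R κ κ (Fin r)).injective (hf' h))
  let ad : A →ₗ[R] A := LinearMap.mulLeft R ξ - LinearMap.mulRight R ξ
  let G : A →ₗ[R] (Fin r → R) × A := π.prod ad
  have hG : Function.Injective (G.lTensor κ) := by
    rw [← LinearMap.ker_eq_bot, LinearMap.ker_eq_bot']
    intro z hz
    have h1 : π.lTensor κ z = 0 := by
      have := congrArg ((LinearMap.fst R (Fin r → R) A).lTensor κ) hz
      rwa [map_zero, ← LinearMap.comp_apply, ← LinearMap.lTensor_comp, LinearMap.fst_prod] at this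
    have h2 : ad.lTensor κ z = 0 := by
      have := congrArg ((LinearMap.snd R (Fin r → R) A).lTensor κ) hz
      rwa [map_zero, ← LinearMap.comp_apply, ← LinearMap.lTensor_comp, LinearMap.snd_prod] at this
    have hcomm : ((1 : κ) ⊗ₜ[R] ξ) * z = z * ((1 : κ) ⊗ₜ[R] ξ) := by
      rw [← sub_eq_zero, ← h2]
      clear h1 h2 hz
      induction z using TensorProduct.induction_on with
      | zero => simp
      | tmul a b => simp [ad, TensorProduct.tmul_sub]
      | add a b ha hb => rw [map_add, ← ha, ← hb, mul_add, add_mul]; abel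
    have hzm := mem_powSpan_of_commute (hrk.trans hA) hd hs hcomm
    rw [Submodule.mem_span_range_iff_exists_fun] at hzm
    obtain ⟨c, rfl⟩ := hzm
    have h3 : ∑ i, c i • ((1 : κ) ⊗ₜ[R] ξ) ^ (i : ℕ) =
        f.lTensor κ ((TensorProduct.piScalarRight R κ κ (Fin r)).symm c) := by
      rw [hff', LinearEquiv.apply_symm_apply]
      simp [f', Fintype.linearCombination_apply, Algebra.TensorProduct.tmul_pow]
    rw [h3, ← LinearMap.comp_apply, ← LinearMap.lTensor_comp, hπ, LinearMap.lTensor_id, LinearMap.id_apply] at h1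
    rw [h3, h1, map_zero]
  obtain ⟨G', hG'⟩ := (IsLocalRing.split_injective_iff_lTensor_residueField_injective G).2 hG
  have hinj : Function.Injective G := Function.HasLeftInverse.injective ⟨_, LinearMap.congr_fun hG'⟩
  have hfy : f (π y) ∈ powSpan R ξ r := by
    rw [Submodule.mem_span_range_iff_exists_fun]
    exact ⟨π y, by simp [f, Fintype.linearCombination_apply]⟩
  have hyeq : y = f (π y) := by
    apply hinj
    have hadf : ad (f (π y)) = 0 := by
      simp only [f, Fintype.linearCombination_apply, map_sum, map_smul]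
      refine Finset.sum_eq_zero fun i _ => ?_
      simp [ad, (Commute.self_pow ξ (i : ℕ)).eq]
    refine Prod.ext ?_ ?_
    · show π y = π (f (π y))
      exact (LinearMap.congr_fun hπ (π y)).symm
    · show ad y = ad (f (π y))
      rw [hadf]
      simp [ad, hc]
  rwa [hyeq]

include hA hd hs in
theorem pow_mem_powSpan : ξ ^ r ∈ powSpan R ξ r :=
  mem_powSpan_of_commute_local hA hd hs (Commute.self_pow ξ r).eq

include hA hd hs in
/-- A maximal etale subalgebra generated by a regular section. -/
theorem exists_etale_adjoin : ∃ (E : Type u) (_ : CommRing E) (_ : Algebra R E), Algebra.Etale R E ∧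
    Module.Finite R E ∧ Module.Free R E ∧ finrank R E = r ∧
    ∃ u : E →ₐ[R] A, Function.Injective (u.toLinearMap.lTensor κ) := by
  obtain ⟨c, hc⟩ := (Submodule.mem_span_range_iff_exists_fun R).1 (pow_mem_powSpan hA hd hs)
  obtain ⟨hfree, hcen, hsim, hfin, hrk⟩ := residual_spec (R := R) (A := A)
  let P : R[X] := X ^ r - ∑ i : Fin r, Polynomial.C (c i) * X ^ (i : ℕ)
  have hlt : (∑ i : Fin r, Polynomial.C (c i) * X ^ (i : ℕ)).degree < (r : WithBot ℕ) := degree_sum_fin_lt c
  have hm : P.Monic := monic_X_pow_sub hlt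
  have hdeg : P.natDegree = r := by
    refine natDegree_eq_of_degree_eq_some ?_
    rw [degree_sub_eq_left_of_degree_lt (by rwa [degree_X_pow]), degree_X_pow]
  have hPξ : aeval ξ P = 0 := by
    simp only [P, map_sub, map_pow, aeval_X, map_sum, map_mul, aeval_C]
    rw [sub_eq_zero, ← hc]
    exact Finset.sum_congr rfl fun i _ => Algebra.smul_def _ _
  have hPbar : P.map (algebraMap R κ) = minpoly κ ((1 : κ) ⊗ₜ[R] ξ) := by
    refine (eq_of_monic_of_dvd_of_natDegree_le (minpoly.monic (IsIntegral.of_finite κ _)) (hm.map _)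
      (minpoly.dvd κ _ ?_) (by rw [hd, hm.natDegree_map (algebraMap R κ), hdeg]))
    rw [aeval_map_algebraMap]
    show aeval (Algebra.TensorProduct.includeRight ξ) P = 0
    rw [aeval_algHom_apply, hPξ, map_zero]
  have := hm.finite_adjoinRoot
  have := hm.free_adjoinRoot
  have hint : Algebra.IsIntegral R (AdjoinRoot P) := Algebra.IsIntegral.of_finite R _
  have hu : IsUnit (AdjoinRoot.mk P (derivative P)) := by
    by_contra hnu
    obtain ⟨M, hM, hmem⟩ := exists_max_ideal_of_mem_nonunits hnu
    have hcomap : Ideal.comap (algebraMap R (AdjoinRoot P)) M = IsLocalRing.maximalIdeal R :=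
      IsLocalRing.eq_maximalIdeal (Ideal.isMaximal_comap_of_isIntegral_of_isMaximal M)
    letI := Ideal.Quotient.field M
    let θ : R →+* AdjoinRoot P ⧸ M := (Ideal.Quotient.mk M).comp (algebraMap R (AdjoinRoot P))
    let θb : κ →+* AdjoinRoot P ⧸ M := Ideal.Quotient.lift _ θ (fun a ha => by
      rw [← hcomap] at ha
      exact Ideal.Quotient.eq_zero_iff_mem.2 ha)
    have hθ : θb.comp (algebraMap R κ) = θ := RingHom.ext fun a => rfl
    have hev : ∀ q : R[X], eval₂ θb (Ideal.Quotient.mk M (AdjoinRoot.root P)) (q.map (algebraMap R κ)) =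
        Ideal.Quotient.mk M (AdjoinRoot.mk P q) := fun q => by
      rw [eval₂_map, hθ, ← AdjoinRoot.aeval_eq, aeval_def, hom_eval₂]
    have hsP : (P.map (algebraMap R κ)).Separable := by rw [hPbar]; exact hs
    refine Separable.eval₂_derivative_ne_zero θb hsP
      (x := Ideal.Quotient.mk M (AdjoinRoot.root P)) ?_ ?_
    · rw [hev, AdjoinRoot.mk_self, map_zero]
    · rw [derivative_map, hev]
      exact Ideal.Quotient.eq_zero_iff_mem.2 hmem
  obtain ⟨v, hv⟩ := hu.exists_right_inv
  obtain ⟨q, rfl⟩ := AdjoinRoot.mk_surjective v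
  obtain ⟨w, hw⟩ : P ∣ derivative P * q - 1 := by
    rw [← AdjoinRoot.mk_eq_zero, map_sub, map_mul, hv, map_one, sub_self]
  let Q : StandardEtalePair R := { f := P, monic_f := hm, g := 1, cond := ⟨q, -w, 0, by rw [pow_zero]; linear_combination hw⟩ }
  have hone : IsUnit (AdjoinRoot.mk Q.f Q.g) := by simp [Q]
  let e : Localization.Away (AdjoinRoot.mk Q.f Q.g) ≃ₐ[AdjoinRoot Q.f] AdjoinRoot Q.f :=
    (IsLocalization.atUnits _ (Submonoid.powers (AdjoinRoot.mk Q.f Q.g)) (by
      rintro _ ⟨k, rfl⟩
      exact hone.pow k)).symm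
  have het : Algebra.Etale R (AdjoinRoot P) :=
    Algebra.Etale.of_equiv (Q.equivAwayAdjoinRoot.trans (e.restrictScalars R))
  let B := Algebra.adjoin R ({ξ} : Set A)
  letI : CommRing B := Algebra.adjoinCommRingOfComm R (by
    rintro a (rfl : a = ξ) b (rfl : b = _)
    rfl)
  let ξ' : B := ⟨ξ, Algebra.self_mem_adjoin_singleton R ξ⟩
  let uB : AdjoinRoot P →ₐ[R] B := AdjoinRoot.liftAlgHom P (Algebra.ofId R B) ξ' (by
    show aeval ξ' P = 0
    apply Subtype.val_injective
    show B.val (aeval ξ' P) = B.val 0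
    rw [← aeval_algHom_apply, map_zero]
    exact hPξ)
  let u : AdjoinRoot P →ₐ[R] A := B.val.comp uB
  have huroot : ∀ i : ℕ, u (AdjoinRoot.root P ^ i) = ξ ^ i := fun i => by
    simp [u, uB, ξ']
  refine ⟨AdjoinRoot P, inferInstance, inferInstance, het, hm.finite_adjoinRoot, hm.free_adjoinRoot,
    (AdjoinRoot.powerBasis' hm).finrank.trans hdeg, u, ?_⟩
  let b := (AdjoinRoot.powerBasis' hm).basis
  let bk := b.baseChange κ
  have hli : LinearIndependent κ fun i => u.toLinearMap.baseChange κ (bk i) := by
    have : (fun i => u.toLinearMap.baseChange κ (bk i)) =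
        (fun i : Fin r => (1 : κ) ⊗ₜ[R] (ξ ^ (i : ℕ))) ∘ Fin.cast hdeg := by
      funext i
      simp [bk, b, huroot]
    rw [this]
    exact (residual_linearIndependent_pow hd).comp _ (Fin.cast_injective hdeg)
  rw [← LinearMap.baseChange_eq_ltensor]
  intro a b' hab
  apply bk.repr.injective
  have hcoef := fun z => congrArg (u.toLinearMap.baseChange κ) (bk.sum_repr z)
  simp only [map_sum, map_smul] at hcoef
  ext i
  have := Fintype.linearIndependent_iff.mp hli (fun i => bk.repr a i - bk.repr b' i) (by
    simp only [sub_smul, Finset.sum_sub_distrib, hcoef, hab, sub_self]) i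
  exact sub_eq_zero.mp this

end Groth.Agent.Dix93
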