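import Groth.Agent.Dix93.Local
import Groth.Agent.Azu26.StrictLocal
import Groth.Agent.Csa25.AzuLG
import Groth.Agent.Csa25.AzuModules

/-! Lifting isomorphisms of Azumaya algebras over henselian local rings. -/

set_option autoImplicit false
open scoped TensorProduct
open Module MulOpposite

namespace Groth.Agent.Dix93

universe u

variable {R : Type u} [CommRing R]

local notation "κ" => IsLocalRing.ResidueField R

theorem mem_smul_top_iff_one_tmul (m : Ideal R) {M : Type*} [AddCommGroup M] [Module R M] (x : M) :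
    x ∈ m • (⊤ : Submodule R M) ↔ (1 : R ⧸ m) ⊗ₜ[R] x = 0 := by
  rw [← (TensorProduct.quotTensorEquivQuotSMul M m).map_eq_zero_iff,
    TensorProduct.quotTensorEquivQuotSMul_mk_one_tmul, Submodule.Quotient.mk_eq_zero]

theorem isLGRing_of_isLocalRing [IsLocalRing R] : LGRing.IsLGRing R := by
  intro n f h
  obtain ⟨s, hs⟩ := h (IsLocalRing.maximalIdeal R)
  choose t ht using fun i => Ideal.Quotient.mk_surjective (s i)
  refine ⟨t, by_contra fun hn => ?_⟩
  refine hs.ne_zero ?_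
  have hse : s = fun i => Ideal.Quotient.mk (IsLocalRing.maximalIdeal R) (t i) := funext fun i => (ht i).symm
  rw [hse]
  show MvPolynomial.aeval (fun i => Ideal.Quotient.mkₐ R (IsLocalRing.maximalIdeal R) (t i)) f = 0
  rw [← MvPolynomial.comp_aeval_apply]
  exact Ideal.Quotient.eq_zero_iff_mem.2 hn

theorem nonempty_split_tensor_op [HenselianLocalRing R] (A : Type u) [Ring A] [Algebra R A] [IsAzumaya R A]
    (B : Type u) [Ring B] [Algebra R B] [IsAzumaya R B] (e₀ : (κ ⊗[R] A) ≃ₐ[κ] (κ ⊗[R] B)) :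
    Nonempty ((A ⊗[R] Bᵐᵒᵖ) ≃ₐ[R] Matrix (Fin (finrank R B)) (Fin (finrank R B)) R) := by
  classical
  have hfB : Module.Free R B := Module.free_of_flat_of_isLocalRing
  have hAB : IsAzumaya R Bᵐᵒᵖ := Csa25.isAzumaya_op (R := R) (A := B)
  have hT : IsAzumaya R (A ⊗[R] Bᵐᵒᵖ) := Csa25.isAzumaya_tensor R A Bᵐᵒᵖ
  have hkB : IsAzumaya κ (κ ⊗[R] B) := Azu26.isAzumaya_baseChange R κ B
  have := Azu26.nontrivial_of_field κ (κ ⊗[R] B)
  let N := finrank R B
  have hN : 0 < N := by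
    show 0 < finrank R B
    rw [← Module.finrank_baseChange (R := κ) (S := R) (M' := B)]
    exact Module.finrank_pos
  let bk := (Module.finBasis R B).baseChange κ
  let L : A →ₐ[R] Module.End κ (κ ⊗[R] B) :=
    (((Algebra.lmul κ (κ ⊗[R] B)).comp e₀.toAlgHom).restrictScalars R).comp Algebra.TensorProduct.includeRight
  let Rt : Bᵐᵒᵖ →ₐ[R] Module.End κ (κ ⊗[R] B) :=
    { toFun := fun b => LinearMap.mulRight κ ((1 : κ) ⊗ₜ[R] b.unop)
      map_one' := LinearMap.ext fun x => by simp [← Algebra.TensorProduct.one_def]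
      map_mul' := fun a b => LinearMap.ext fun x => by
        rw [Module.End.mul_apply, LinearMap.mulRight_apply, LinearMap.mulRight_apply,
          LinearMap.mulRight_apply, mul_assoc, Algebra.TensorProduct.tmul_mul_tmul, one_mul, unop_mul]
      map_zero' := LinearMap.ext fun x => by simp
      map_add' := fun a b => LinearMap.ext fun x => by simp [TensorProduct.tmul_add, mul_add]
      commutes' := fun r => LinearMap.ext fun x => by
        simp [Algebra.algebraMap_eq_smul_one, TensorProduct.tmul_smul, ← Algebra.TensorProduct.one_def] }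
  have hLR : ∀ a b, Commute (L a) (Rt b) := fun a b => LinearMap.ext fun x => by
    simp [L, Rt, mul_assoc]
  let π₀ : A ⊗[R] Bᵐᵒᵖ →ₐ[R] Module.End κ (κ ⊗[R] B) := Algebra.TensorProduct.lift L Rt hLR
  let π₁ : κ ⊗[R] (A ⊗[R] Bᵐᵒᵖ) →ₐ[κ] Module.End κ (κ ⊗[R] B) :=
    Algebra.TensorProduct.lift (Algebra.ofId κ _) π₀ (fun c x => Algebra.commutes c _)
  have hπ₁s : Function.Surjective π₁ := by
    intro g
    obtain ⟨w, rfl⟩ := (IsAzumaya.bij (R := κ) (A := κ ⊗[R] B)).2 g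
    induction w using TensorProduct.induction_on with
    | zero => exact ⟨0, by simp⟩
    | add x y hx hy =>
      obtain ⟨a, ha⟩ := hx
      obtain ⟨b, hb⟩ := hy
      exact ⟨a + b, by rw [map_add, map_add, ha, hb]⟩
    | tmul p q =>
      obtain ⟨a, ha⟩ := TensorProduct.mk_surjective R A κ Ideal.Quotient.mk_surjective (e₀.symm p)
      obtain ⟨b, hb⟩ := TensorProduct.mk_surjective R B κ Ideal.Quotient.mk_surjective q.unop
      refine ⟨(1 : κ) ⊗ₜ[R] (a ⊗ₜ[R] op b), LinearMap.ext fun x => ?_⟩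
      simp only [TensorProduct.mk_apply] at ha hb
      have hval : π₁ ((1 : κ) ⊗ₜ[R] (a ⊗ₜ[R] op b)) = L a * Rt (op b) := by
        refine (Algebra.TensorProduct.lift_tmul _ π₀ _ (1 : κ) (a ⊗ₜ[R] op b)).trans ?_
        rw [map_one, one_mul]
        exact Algebra.TensorProduct.lift_tmul L Rt hLR a (op b)
      rw [hval]
      simp [L, Rt, ha, hb, mul_assoc]
  have hT' : Module.Free R (A ⊗[R] Bᵐᵒᵖ) := Module.free_of_flat_of_isLocalRing
  have hfA : Module.Free R A := Module.free_of_flat_of_isLocalRing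
  have hfB' : Module.Free R Bᵐᵒᵖ := Module.free_of_flat_of_isLocalRing
  have hπ₁i : Function.Injective π₁ := by
    refine (LinearMap.injective_iff_surjective_of_finrank_eq_finrank (f := π₁.toLinearMap) ?_).2 hπ₁s
    rw [Module.finrank_baseChange, Module.finrank_tensorProduct,
      ← (opLinearEquiv R : B ≃ₗ[R] Bᵐᵒᵖ).finrank_eq, Module.finrank_linearMap, Module.finrank_baseChange,
      ← Module.finrank_baseChange (R := κ) (S := R) (M' := A), e₀.toLinearEquiv.finrank_eq,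
      Module.finrank_baseChange]
  let M : Module.End κ (κ ⊗[R] B) ≃ₐ[κ] Matrix (Fin N) (Fin N) κ := LinearMap.toMatrixAlgEquiv bk
  refine Azu26.exists_split hN (fun m => ?_) (fun a ha => Azu26.exists_idempotent_lift_alg (H := R) a ha)
  obtain rfl : m = ⟨IsLocalRing.maximalIdeal R, inferInstance⟩ :=
    MaximalSpectrum.ext (IsLocalRing.eq_maximalIdeal m.isMaximal)
  refine ⟨((M.toAlgHom.comp π₁).restrictScalars R).comp Algebra.TensorProduct.includeRight,
    fun y => ?_, fun x => ?_⟩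
  · obtain ⟨z, hz⟩ := hπ₁s (M.symm y)
    obtain ⟨x, hx⟩ := TensorProduct.mk_surjective R (A ⊗[R] Bᵐᵒᵖ) κ Ideal.Quotient.mk_surjective z
    refine ⟨x, ?_⟩
    show M (π₁ ((1 : κ) ⊗ₜ[R] x)) = y
    rw [TensorProduct.mk_apply] at hx
    rw [hx, hz]
    exact M.apply_symm_apply y
  · show M (π₁ ((1 : κ) ⊗ₜ[R] x)) = 0 ↔ _
    rw [map_eq_zero_iff _ M.injective, map_eq_zero_iff _ hπ₁i, mem_smul_top_iff_one_tmul]
    rfl

theorem exists_algEquiv_lift [HenselianLocalRing R] (A : Type u) [Ring A] [Algebra R A] [IsAzumaya R A]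
    (B : Type u) [Ring B] [Algebra R B] [IsAzumaya R B] (e₀ : (κ ⊗[R] A) ≃ₐ[κ] (κ ⊗[R] B)) :
    ∃ e : A ≃ₐ[R] B, ∀ a : A, e₀ ((1 : κ) ⊗ₜ[R] a) = (1 : κ) ⊗ₜ[R] (e a) := by
  have hAB : IsAzumaya R Bᵐᵒᵖ := Csa25.isAzumaya_op (R := R) (A := B)
  obtain ⟨eA⟩ := nonempty_split_tensor_op A B e₀
  obtain ⟨eB⟩ := nonempty_split_tensor_op B B (AlgEquiv.refl : (κ ⊗[R] B) ≃ₐ[κ] (κ ⊗[R] B))
  obtain ⟨f⟩ := Csa25.nonempty_algEquiv_of_tensor isLGRing_of_isLocalRing A B Bᵐᵒᵖ (eA.trans eB.symm)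
  have hkB : IsAzumaya κ (κ ⊗[R] B) := Azu26.isAzumaya_baseChange R κ B
  have := Azu26.isCentral_of_field κ (κ ⊗[R] B)
  have := Azu26.isSimpleRing_of_field κ (κ ⊗[R] B)
  let fk : (κ ⊗[R] A) ≃ₐ[κ] (κ ⊗[R] B) := Algebra.TensorProduct.congr AlgEquiv.refl f
  obtain ⟨ū, hū⟩ := Csa25.exists_unit_conj_algEquiv (fk.symm.trans e₀)
  obtain ⟨u, hu⟩ := TensorProduct.mk_surjective R B κ Ideal.Quotient.mk_surjective (ū : κ ⊗[R] B)
  obtain ⟨v, hv⟩ := TensorProduct.mk_surjective R B κ Ideal.Quotient.mk_surjective ((ū⁻¹ : (κ ⊗[R] B)ˣ) : κ ⊗[R] B)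
  rw [TensorProduct.mk_apply] at hu hv
  have hunit : ∀ x y : B, ((1 : κ) ⊗ₜ[R] x) * ((1 : κ) ⊗ₜ[R] y) = 1 → IsUnit (x * y) := by
    intro x y h
    rw [← add_sub_cancel (1 : B) (x * y)]
    refine Azu26.isUnit_one_add (R := R) ?_
    rw [IsLocalRing.jacobson_eq_maximalIdeal _ bot_ne_top, mem_smul_top_iff_one_tmul]
    show (1 : κ) ⊗ₜ[R] (x * y - 1) = 0
    rw [TensorProduct.tmul_sub, ← Algebra.TensorProduct.one_def]
    rw [Algebra.TensorProduct.tmul_mul_tmul, one_mul] at h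
    rw [h, sub_self]
  have h1 := hunit u v (by rw [hu, hv, Units.mul_inv])
  have h2 := hunit v u (by rw [hu, hv, Units.inv_mul])
  have huu : IsUnit u := by
    obtain ⟨a, ha⟩ := h1.exists_right_inv
    obtain ⟨b, hb⟩ := h2.exists_left_inv
    exact isUnit_iff_exists.2 ⟨v * a, by rw [← mul_assoc, ha], by
      have e1 : b * v * u = 1 := by rw [mul_assoc, hb]
      have e2 : b * v = v * a := left_inv_eq_right_inv e1 (by rw [← mul_assoc, ha])
      rw [← e2, e1]⟩
  obtain ⟨U, rfl⟩ := huu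
  let conj : B ≃ₐ[R] B :=
    { toFun := fun x => ↑U * x * ↑U⁻¹
      invFun := fun x => ↑U⁻¹ * x * ↑U
      left_inv := fun x => by simp [mul_assoc]
      right_inv := fun x => by simp [mul_assoc]
      map_mul' := fun x y => by simp [mul_assoc]
      map_add' := fun x y => by simp [mul_add, add_mul]
      commutes' := fun r => by simp [← Algebra.commutes r] }
  refine ⟨f.trans conj, fun a => ?_⟩
  have h := hū (fk ((1 : κ) ⊗ₜ[R] a))
  simp only [AlgEquiv.trans_apply, AlgEquiv.symm_apply_apply] at h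
  rw [h, Units.mul_inv_eq_iff_eq_mul]
  rw [← hu]
  simp [fk, conj, mul_assoc]

end Groth.Agent.Dix93
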