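import Groth.Agent.Csa25.BaseChange
import Groth.Agent.Csa25.Wedderburn
import Groth.Agent.Csa25.Subfield
import Groth.Agent.WE24.Field
import Mathlib.LinearAlgebra.Lagrange
import Mathlib.FieldTheory.Finite.Extension

/-! Regular elements of central simple algebras. -/

set_option autoImplicit false
open scoped TensorProduct
open Module Polynomial

namespace Groth.Agent.Dix93

universe u v

variable {k : Type u} [Field k] {A : Type v} [Ring A] [Algebra k A]

/-- The span of the first powers of an element. -/
abbrev powSpan (k : Type u) [CommRing k] {A : Type v} [Ring A] [Algebra k A] (x : A) (r : ℕ) :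
    Submodule k A :=
  Submodule.span k (Set.range fun i : Fin r => x ^ (i : ℕ))

theorem aeval_mem_powSpan {R : Type u} [CommRing R] {B : Type v} [Ring B] [Algebra R B] {x : B} {p : R[X]}
    (hp : p.Monic) (hx : aeval x p = 0) (q : R[X]) : aeval x q ∈ powSpan R x p.natDegree := by
  rcases subsingleton_or_nontrivial R with h | h
  · have := Module.subsingleton R B
    rw [Subsingleton.elim (aeval x q) 0]
    exact zero_mem _
  have hq : aeval x q = aeval x (q %ₘ p) := by
    conv_lhs => rw [← modByMonic_add_div q p, map_add, map_mul, hx, zero_mul, add_zero]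
  rw [hq]
  by_cases h0 : q %ₘ p = 0
  · simp [h0]
  rw [aeval_eq_sum_range' (natDegree_lt_natDegree h0 (degree_modByMonic_lt q hp))]
  exact Submodule.sum_mem _ fun i hi => Submodule.smul_mem _ _
    (Submodule.subset_span ⟨⟨i, Finset.mem_range.mp hi⟩, rfl⟩)

theorem powSpan_le_adjoin {R : Type u} [CommRing R] {B : Type v} [Ring B] [Algebra R B] (x : B) (r : ℕ) :
    powSpan R x r ≤ Subalgebra.toSubmodule (Algebra.adjoin R {x}) := by
  refine Submodule.span_le.2 ?_
  rintro _ ⟨i, rfl⟩
  exact pow_mem (Algebra.self_mem_adjoin_singleton R x) _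

theorem adjoin_eq_powSpan {x : A} (hx : IsIntegral k x) :
    Subalgebra.toSubmodule (Algebra.adjoin k {x}) = powSpan k x (minpoly k x).natDegree := by
  refine le_antisymm (fun y hy => ?_) (powSpan_le_adjoin x _)
  rw [Subalgebra.mem_toSubmodule, Algebra.adjoin_singleton_eq_range_aeval] at hy
  obtain ⟨q, rfl⟩ := hy
  exact aeval_mem_powSpan (minpoly.monic hx) (minpoly.aeval k x) q

theorem finrank_adjoin_singleton {x : A} (hx : IsIntegral k x) :
    finrank k (Algebra.adjoin k {x}) = (minpoly k x).natDegree := by
  show finrank k (Subalgebra.toSubmodule (Algebra.adjoin k {x})) = _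
  rw [adjoin_eq_powSpan hx, finrank_span_eq_card (linearIndependent_pow x), Fintype.card_fin]

theorem separable_of_isSeparable_adjoin {x : A} [Algebra.IsSeparable k (Algebra.adjoin k ({x} : Set A))] :
    (minpoly k x).Separable := by
  let x' : Algebra.adjoin k ({x} : Set A) := ⟨x, Algebra.self_mem_adjoin_singleton k x⟩
  have : IsSeparable k x' := Algebra.IsSeparable.isSeparable k x'
  rwa [IsSeparable, ← minpoly.algHom_eq (Algebra.adjoin k ({x} : Set A)).val Subtype.val_injective x'] at this

theorem isSeparable_adjoin_of_separable {x : A} (hs : (minpoly k x).Separable) :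
    Algebra.IsSeparable k (Algebra.adjoin k ({x} : Set A)) := by
  classical
  refine ⟨fun z => ?_⟩
  let p := minpoly k x
  have hroot : IsSeparable k (AdjoinRoot.root p) :=
    hs.of_dvd (minpoly.dvd k _ (by rw [AdjoinRoot.aeval_eq, AdjoinRoot.mk_self]))
  obtain ⟨q, hq⟩ : ∃ q : k[X], aeval x q = z := by
    exact (SetLike.ext_iff.mp (Algebra.adjoin_singleton_eq_range_aeval k x) (z : A)).mp z.2
  have hsep : IsSeparable k (aeval (AdjoinRoot.root p) q) :=
    WE24.isSeparable_of_mem_adjoin (s := {AdjoinRoot.root p}) (by simpa using hroot)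
      (by rw [Finset.coe_singleton]; exact aeval_mem_adjoin_singleton k (AdjoinRoot.root p))
  rw [IsSeparable, ← minpoly.algHom_eq (Algebra.adjoin k ({x} : Set A)).val Subtype.val_injective z]
  refine hsep.of_dvd (minpoly.dvd k _ ?_)
  show aeval (z : A) _ = 0
  rw [← hq, ← aeval_comp]
  have h0 : aeval (AdjoinRoot.root p) ((minpoly k (aeval (AdjoinRoot.root p) q)).comp q) = 0 := by
    rw [aeval_comp, minpoly.aeval]
  rw [AdjoinRoot.aeval_eq, AdjoinRoot.mk_eq_zero] at h0
  obtain ⟨w, hw⟩ := h0
  rw [hw, map_mul, minpoly.aeval, zero_mul]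

section Commutant

/-- Over an algebraically closed field, the commutant of an operator with separable polynomial of
maximal degree consists of polynomials in it. -/
theorem exists_aeval_eq_of_commute {K : Type*} [Field K] [IsAlgClosed K] {V : Type*} [AddCommGroup V]
    [Module K V] [FiniteDimensional K V] {T S : Module.End K V} {p : K[X]} (hp : p.Monic)
    (hsep : p.Separable) (hT : aeval T p = 0) (hdeg : p.natDegree = finrank K V)
    (hind : ∀ q : K[X], q.natDegree < p.natDegree → aeval T q = 0 → q = 0) (hc : T * S = S * T) :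
    ∃ q : K[X], aeval T q = S := by
  classical
  rcases Nat.eq_zero_or_pos p.natDegree with h0 | h0
  · refine ⟨0, LinearMap.ext fun w => ?_⟩
    have : Subsingleton V := finrank_zero_iff.mp (hdeg ▸ h0)
    exact Subsingleton.elim _ _
  let s := p.roots.toFinset
  have hcard : s.card = p.natDegree := by
    rw [Multiset.toFinset_card_of_nodup (nodup_roots hsep)]
    exact IsAlgClosed.card_roots_eq_natDegree
  have hs : s.Nonempty := Finset.card_pos.mp (hcard ▸ h0)
  have hvs : Set.InjOn (id : K → K) s := Function.injective_id.injOn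
  have hvanish : ∀ q : K[X], (∀ a ∈ s, q.eval a = 0) → aeval T q = 0 := by
    intro q hq
    by_cases hq0 : q = 0
    · simp [hq0]
    have hdvd : p ∣ q := by
      rw [(IsAlgClosed.splits p).eq_prod_roots_of_monic hp, Multiset.prod_X_sub_C_dvd_iff_le_roots hq0]
      exact (Multiset.le_iff_subset (nodup_roots hsep)).2 fun a ha =>
        (mem_roots hq0).2 (hq a (Multiset.mem_toFinset.2 ha))
    obtain ⟨w, rfl⟩ := hdvd
    rw [map_mul, hT, zero_mul]
  let e : s → Module.End K V := fun i => aeval T (Lagrange.basis s id (i : K))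
  have hne : ∀ i, e i ≠ 0 := fun i h => by
    have := hind _ (by rw [Lagrange.natDegree_basis hvs i.2, hcard]; omega) h
    simpa [this] using Lagrange.eval_basis_self hvs i.2
  have horth : ∀ i j, i ≠ j → e i * e j = 0 := fun i j hij => by
    rw [← map_mul]
    refine hvanish _ fun a ha => ?_
    rw [eval_mul]
    by_cases hia : (i : K) = a
    · have : (Lagrange.basis s id (j : K)).eval a = 0 :=
        Lagrange.eval_basis_of_ne (v := id) (fun h => hij (Subtype.ext (hia.trans h.symm))) ha
      rw [this, mul_zero]
    · rw [show (Lagrange.basis s id (i : K)).eval a = 0 from Lagrange.eval_basis_of_ne (v := id) hia ha,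
        zero_mul]
  have hsum : ∑ i, e i = 1 := by
    rw [← map_sum, Finset.sum_coe_sort s (fun i => Lagrange.basis s id i), Lagrange.sum_basis hvs hs, map_one]
  have hidem : ∀ i, e i * e i = e i := fun i => by
    conv_rhs => rw [← mul_one (e i), ← hsum, Finset.mul_sum]
    exact (Finset.sum_eq_single i (fun j _ hj => horth i j hj.symm) (by simp)).symm
  have hv : ∀ i, ∃ v : V, v ≠ 0 ∧ e i v = v := fun i => by
    obtain ⟨w, hw⟩ : ∃ w, e i w ≠ 0 := by
      by_contra h
      push Not at h
      exact hne i (LinearMap.ext h)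
    exact ⟨e i w, hw, LinearMap.congr_fun (hidem i) w⟩
  choose v hv0 hev using hv
  have hev' : ∀ i j, i ≠ j → e i (v j) = 0 := fun i j hij => by
    rw [← hev j, ← LinearMap.comp_apply]
    exact LinearMap.congr_fun (horth i j hij) _
  have hli : LinearIndependent K v := by
    rw [Fintype.linearIndependent_iff]
    intro g hg i
    have := congrArg (e i) hg
    rw [map_sum, map_zero, Finset.sum_eq_single i (fun j _ hj => by rw [map_smul, hev' i j hj.symm, smul_zero])
      (by simp), map_smul, hev] at this
    exact (smul_eq_zero.mp this).resolve_right (hv0 i)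
  have : Nonempty s := hs.to_subtype
  let b := basisOfLinearIndependentOfCardEqFinrank hli (by rw [Fintype.card_coe, hcard, hdeg])
  have hb : ∀ i, b i = v i := fun i => by simp [b]
  have hcomm : ∀ i, e i * S = S * e i := fun i => by
    have h1 : Commute S T := hc.symm
    have : ∀ q : K[X], Commute S (aeval T q) := by
      intro q
      induction q using Polynomial.induction_on' with
      | add a c ha hcc => rw [map_add]; exact ha.add_right hcc
      | monomial n a =>
        rw [aeval_monomial]
        exact Commute.mul_right (Algebra.commutes a S).symm (h1.pow_right n)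
    exact (this _).eq.symm
  refine ⟨∑ i : s, C (b.repr (S (v i)) i) * Lagrange.basis s id (i : K), b.ext fun j => ?_⟩
  rw [hb, map_sum, LinearMap.sum_apply, Finset.sum_eq_single j]
  · simp only [map_mul, aeval_C, Algebra.algebraMap_eq_smul_one, smul_mul_assoc, one_mul,
      LinearMap.smul_apply]
    change _ • e j (v j) = _
    have h1 : S (v j) = e j (S (v j)) := by
      have := LinearMap.congr_fun (hcomm j) (v j)
      rw [Module.End.mul_apply, Module.End.mul_apply, hev] at this
      exact this.symm
    rw [hev]
    conv_rhs => rw [h1, ← b.sum_repr (S (v j)), map_sum]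
    rw [Finset.sum_eq_single j (fun i _ hi => by rw [map_smul, hb, hev' j i hi.symm, smul_zero]) (by simp),
      map_smul, hb, hev]
  · intro i _ hi
    simp only [map_mul, aeval_C, Algebra.algebraMap_eq_smul_one, smul_mul_assoc, one_mul,
      LinearMap.smul_apply]
    change _ • e i (v j) = _
    rw [hev' i j hi, smul_zero]
  · simp

variable [Algebra.IsCentral k A] [IsSimpleRing A] [FiniteDimensional k A]

/-- In a central simple algebra of degree `r` the commutant of a regular element is generated by it. -/
theorem mem_powSpan_of_commute {r : ℕ} (hA : finrank k A = r ^ 2) {x : A}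
    (hd : (minpoly k x).natDegree = r) (hs : (minpoly k x).Separable) {y : A} (hc : x * y = y * x) :
    y ∈ powSpan k x r := by
  classical
  let K := AlgebraicClosure k
  have := Csa25.isCentral_baseChange (k := k) (A := A) (K := K)
  have := Csa25.isSimpleRing_baseChange k A K
  obtain ⟨n, hn, ⟨φ⟩⟩ := Csa25.exists_algEquiv_matrix_of_isSepClosed K (K ⊗[k] A)
  have hnr : n = r := by
    have h1 : finrank K (K ⊗[k] A) = n * n := by
      rw [φ.toLinearEquiv.finrank_eq, finrank_matrix, Fintype.card_fin, finrank_self, mul_one]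
    rw [finrank_baseChange, hA] at h1
    exact (Nat.pow_left_injective (by norm_num) (h1.trans (sq n).symm)).symm
  let ψ : K ⊗[k] A ≃ₐ[K] Module.End K (Fin n → K) := φ.trans Matrix.toLinAlgEquiv'
  have hx := IsIntegral.of_finite k x
  let p := (minpoly k x).map (algebraMap k K)
  have h1x : aeval ((1 : K) ⊗ₜ[k] x) p = 0 := by
    rw [aeval_map_algebraMap]
    show aeval (Algebra.TensorProduct.includeRight x) _ = 0
    rw [aeval_algHom_apply, minpoly.aeval, map_zero]
  have hT : aeval (ψ (1 ⊗ₜ[k] x)) p = 0 := by rw [aeval_algHom_apply, h1x, map_zero]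
  have hpd : p.natDegree = r := by rw [natDegree_map, hd]
  have hind : ∀ q : K[X], q.natDegree < p.natDegree → aeval (ψ (1 ⊗ₜ[k] x)) q = 0 → q = 0 := by
    intro q hq h
    rw [aeval_algHom_apply, map_eq_zero_iff _ ψ.injective,
      aeval_eq_sum_range' (hq.trans_eq hpd)] at h
    have hli : LinearIndependent K fun i : Fin r => (1 : K) ⊗ₜ[k] (x ^ (i : ℕ)) :=
      Module.Flat.linearIndependent_one_tmul (by
        have := linearIndependent_pow (K := k) x
        rw [hd] at this
        exact this)
    have h2 := Fintype.linearIndependent_iff.mp hli (fun i => q.coeff i) (by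
      rw [← h, Finset.sum_range]
      simp)
    refine Polynomial.ext fun i => ?_
    rcases lt_or_ge i r with hi | hi
    · simpa using h2 ⟨i, hi⟩
    · simpa using coeff_eq_zero_of_natDegree_lt ((hq.trans_eq hpd).trans_le hi)
  obtain ⟨q, hq⟩ := exists_aeval_eq_of_commute (T := ψ (1 ⊗ₜ[k] x)) (S := ψ (1 ⊗ₜ[k] y)) (p := p)
    ((minpoly.monic hx).map _) (Separable.map hs) hT (by rw [hpd, finrank_fintype_fun_eq_card, Fintype.card_fin, hnr])
    hind (by rw [← map_mul, ← map_mul]; simp [hc])
  rw [aeval_algHom_apply, ψ.injective.eq_iff] at hq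
  have hmem : (1 : K) ⊗ₜ[k] y ∈ powSpan K ((1 : K) ⊗ₜ[k] x) r := by
    rw [← hq, ← hpd]
    exact aeval_mem_powSpan ((minpoly.monic hx).map _) h1x q
  have hle : powSpan K ((1 : K) ⊗ₜ[k] x) r ≤
      LinearMap.ker (LinearMap.baseChange K (powSpan k x r).mkQ) := by
    refine Submodule.span_le.2 ?_
    rintro _ ⟨i, rfl⟩
    have h0 : (powSpan k x r).mkQ (x ^ (i : ℕ)) = 0 :=
      (Submodule.Quotient.mk_eq_zero _).2 (Submodule.subset_span ⟨i, rfl⟩)
    simp only [SetLike.mem_coe, LinearMap.mem_ker, Algebra.TensorProduct.tmul_pow, one_pow,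
      LinearMap.baseChange_tmul, h0, TensorProduct.tmul_zero]
  have h := hle hmem
  rw [LinearMap.mem_ker, LinearMap.baseChange_tmul] at h
  exact (Submodule.Quotient.mk_eq_zero _).1
    (Module.FaithfullyFlat.tensorProduct_mk_injective (A := k) (B := K) _ (h.trans (TensorProduct.tmul_zero _ _).symm))

end Commutant

section Existence

theorem minpoly_pi {ι : Type*} [Fintype ι] {B : Type v} [Ring B] [Algebra k B] (y : ι → B)
    (hint : ∀ i, IsIntegral k (y i))
    (hco : Pairwise fun i j => IsCoprime (minpoly k (y i)) (minpoly k (y j))) :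
    minpoly k y = ∏ i, minpoly k (y i) := by
  classical
  have h0 : aeval y (∏ i, minpoly k (y i)) = 0 := funext fun i => by
    rw [aeval_pi_apply]
    rw [← Finset.mul_prod_erase Finset.univ _ (Finset.mem_univ i), Pi.zero_apply]
    show aeval (y i) _ = 0
    rw [map_mul, minpoly.aeval, zero_mul]
  have hm : (∏ i, minpoly k (y i)).Monic := monic_prod_of_monic _ _ fun i _ => minpoly.monic (hint i)
  have hy : IsIntegral k y := ⟨_, hm, h0⟩
  refine eq_of_monic_of_associated (minpoly.monic hy) hm (associated_of_dvd_dvd (minpoly.dvd k y h0) ?_)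
  refine Finset.prod_dvd_of_coprime (fun i _ j _ hij => hco hij) fun i _ => minpoly.dvd k _ ?_
  have h1 := congrFun (minpoly.aeval k y) i
  rw [aeval_pi_apply] at h1
  exact h1

theorem exists_shifts [Infinite k] (B : Set k) (hB : B.Finite) (m : ℕ) :
    ∃ c : Fin m → k, ∀ i j, i < j → c j - c i ∉ B := by
  classical
  obtain ⟨f, -, hf⟩ := exists_seq_of_forall_finset_exists (fun _ : k => True)
    (fun x y => y - x ∉ B) (fun s _ => by
      obtain ⟨y, hy⟩ := (s.finite_toSet.biUnion fun x _ => hB.image (fun b => x + b)).infinite_compl.nonempty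
      refine ⟨y, trivial, fun x hx h => hy ?_⟩
      exact Set.mem_biUnion (Finset.mem_coe.mpr hx) ⟨y - x, h, add_sub_cancel x y⟩)
  exact ⟨fun i => f i, fun i j h => hf i j h⟩

theorem exists_regular_matrix_infinite [Infinite k] {D : Type v} [DivisionRing D] [Algebra k D]
    [Algebra.IsCentral k D] [FiniteDimensional k D] (m : ℕ) :
    ∃ (x : Matrix (Fin m) (Fin m) D) (d : ℕ), finrank k D = d * d ∧ (minpoly k x).Separable ∧
      (minpoly k x).natDegree = m * d := by
  classical
  obtain ⟨L, _, _, ι, _, _, hd⟩ := Csa25.exists_separable_maximal_subfield k D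
  obtain ⟨y, hy⟩ := Field.exists_primitive_element k L
  have hyd : (minpoly k y).natDegree = finrank k L :=
    (Field.primitive_element_iff_minpoly_natDegree_eq k y).mp hy
  let P := minpoly k y
  have hyi : IsIntegral k y := IsIntegral.of_finite k y
  obtain ⟨θ, hθ⟩ := IsAlgClosed.exists_aeval_eq_zero (AlgebraicClosure k) P (minpoly.degree_pos hyi).ne'
  let B : Set k := {c | aeval (θ + algebraMap k (AlgebraicClosure k) c) P = 0}
  have hB : B.Finite := by
    refine Set.Finite.of_finite_image (f := fun c => θ + algebraMap k (AlgebraicClosure k) c)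
      ((P.rootSet_finite (AlgebraicClosure k)).subset ?_)
      fun a _ b _ h => (algebraMap k (AlgebraicClosure k)).injective (add_left_cancel h)
    rintro _ ⟨c, hc, rfl⟩
    exact (mem_rootSet_of_ne (minpoly.ne_zero hyi)).mpr hc
  obtain ⟨c, hc⟩ := exists_shifts B hB m
  let z : Fin m → L := fun i => y + algebraMap k L (c i)
  have hz : ∀ i, minpoly k (z i) = P.comp (X - C (c i)) := fun i => minpoly.add_algebraMap y (c i)
  have hne : ∀ i j, i < j → minpoly k (z i) ≠ minpoly k (z j) := fun i j hij h => by
    apply hc i j hij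
    rw [hz, hz] at h
    have := congrArg (aeval (θ + algebraMap k (AlgebraicClosure k) (c j))) h
    simp only [aeval_comp, map_sub, aeval_X, aeval_C, add_sub_cancel_right, hθ] at this
    show aeval (θ + algebraMap k (AlgebraicClosure k) (c j - c i)) P = 0
    rw [map_sub, ← add_sub_assoc]
    exact this
  have hirr : ∀ i, Irreducible (minpoly k (z i)) := fun i => minpoly.irreducible (IsIntegral.of_finite k _)
  have hco : Pairwise fun i j => IsCoprime (minpoly k (z i)) (minpoly k (z j)) := fun i j hij => by
    refine (hirr i).coprime_iff_not_dvd.2 fun hdvd => ?_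
    have := eq_of_monic_of_associated (minpoly.monic (IsIntegral.of_finite k (z i)))
      (minpoly.monic (IsIntegral.of_finite k (z j))) ((hirr i).associated_of_dvd (hirr j) hdvd)
    rcases hij.lt_or_gt with h | h
    · exact hne i j h this
    · exact hne j i h this.symm
  let Φ : (Fin m → L) →ₐ[k] Matrix (Fin m) (Fin m) D :=
    (Matrix.diagonalAlgHom k).comp (AlgHom.compLeft ι (Fin m))
  have hΦ : Function.Injective Φ := fun a b h => funext fun i =>
    ι.toRingHom.injective (congrFun (Matrix.diagonal_injective h) i)
  refine ⟨Φ z, finrank k L, hd.symm, ?_, ?_⟩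
  · rw [minpoly.algHom_eq Φ hΦ, minpoly_pi z (fun i => IsIntegral.of_finite k _) hco]
    exact separable_prod hco fun i => Algebra.IsSeparable.isSeparable k (z i)
  · rw [minpoly.algHom_eq Φ hΦ, minpoly_pi z (fun i => IsIntegral.of_finite k _) hco,
      natDegree_prod _ _ fun i _ => minpoly.ne_zero (IsIntegral.of_finite k _)]
    simp only [hz, natDegree_comp, natDegree_X_sub_C, mul_one, P, hyd, Finset.sum_const, Finset.card_univ,
      Fintype.card_fin, smul_eq_mul]

theorem exists_regular_matrix_finite [Finite k] (m : ℕ) [NeZero m] :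
    ∃ x : Matrix (Fin m) (Fin m) k, (minpoly k x).Separable ∧ (minpoly k x).natDegree = m := by
  obtain ⟨p, hp⟩ := CharP.exists k
  have : Fact p.Prime := ⟨CharP.char_is_prime k p⟩
  let L := FiniteField.Extension k p m
  have hL : finrank k L = m := FiniteField.finrank_extension k p m
  obtain ⟨y, hy⟩ := Field.exists_primitive_element_of_finite_top k L
  have hyd : (minpoly k y).natDegree = finrank k L := by
    rw [← IntermediateField.adjoin.finrank (IsIntegral.of_finite k y), hy, IntermediateField.finrank_top']
  let b := (Module.finBasisOfFinrankEq k L hL)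
  refine ⟨Algebra.leftMulMatrix b y, ?_, ?_⟩
  · rw [minpoly.algHom_eq _ (Algebra.leftMulMatrix_injective b)]
    exact PerfectField.separable_of_irreducible (minpoly.irreducible (IsIntegral.of_finite k y))
  · rw [minpoly.algHom_eq _ (Algebra.leftMulMatrix_injective b), hyd, hL]

/-- A central simple algebra of degree `r` contains a regular element. -/
theorem exists_regular [Algebra.IsCentral k A] [IsSimpleRing A] [FiniteDimensional k A] {r : ℕ}
    (hA : finrank k A = r ^ 2) :
    ∃ x : A, (minpoly k x).Separable ∧ (minpoly k x).natDegree = r := by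
  classical
  obtain ⟨m, D, _, _, hm, _, _, ⟨e⟩⟩ := Csa25.exists_division k A
  have : NeZero m := ⟨hm.ne'⟩
  have hAD : finrank k A = m * m * finrank k D := by
    rw [e.toLinearEquiv.finrank_eq, finrank_matrix, Fintype.card_fin]
  suffices h : ∃ (x : Matrix (Fin m) (Fin m) D) (d : ℕ), finrank k D = d * d ∧
      (minpoly k x).Separable ∧ (minpoly k x).natDegree = m * d by
    obtain ⟨x, d, hd, hs, hdeg⟩ := h
    refine ⟨e.symm x, ?_, ?_⟩
    · rwa [minpoly.algEquiv_eq]
    · rw [minpoly.algEquiv_eq, hdeg]
      refine Nat.pow_left_injective two_ne_zero ?_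
      show (m * d) ^ 2 = r ^ 2
      rw [← hA, hAD, hd]
      ring
  rcases finite_or_infinite k with hk | hk
  · have : Finite D := Module.finite_of_finite k
    have hcomm : ∀ a b : D, a * b = b * a := fun a b => by
      let F : Field D := littleWedderburn D
      exact @mul_comm D F.toCommRing.toCommMagma a b
    have hbij : Function.Bijective (algebraMap k D) := by
      refine ⟨(algebraMap k D).injective, fun a => ?_⟩
      exact Algebra.mem_bot.mp (Algebra.IsCentral.out (Subalgebra.mem_center_iff.2 fun b => hcomm b a))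
    have hD1 : finrank k D = 1 := by
      rw [← (LinearEquiv.ofBijective (Algebra.linearMap k D) hbij).finrank_eq, finrank_self]
    obtain ⟨x, hs, hd⟩ := exists_regular_matrix_finite (k := k) m
    have hinj : Function.Injective ((Algebra.ofId k D).mapMatrix : Matrix (Fin m) (Fin m) k →ₐ[k] Matrix (Fin m) (Fin m) D) :=
      Matrix.map_injective hbij.1
    refine ⟨(Algebra.ofId k D).mapMatrix x, 1, by rw [hD1], ?_, ?_⟩
    · rwa [minpoly.algHom_eq _ hinj]
    · rw [minpoly.algHom_eq _ hinj, hd, mul_one]
  · exact exists_regular_matrix_infinite m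

end Existence

end Groth.Agent.Dix93
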